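import Mathlib

/-!
# `LiftsLE e n`: every field-valued point of the target has at most `n` lifts along `e` (helper52)

Used as the induction parameter ("degree of the etale morphism `e`") in the proof that an algebraic space separated
and locally quasi-finite over a scheme is a scheme.
-/

set_option autoImplicit false
universe u
open CategoryTheory CategoryTheory.Limits AlgebraicGeometry

namespace Groth.Agent.H52.SL

/-- Every field-valued point `ω : Spec Ω ⟶ T` has at most `n` lifts `σ : Spec Ω ⟶ T'` along `e`. -/
def LiftsLE {T' T : Scheme.{u}} (e : T' ⟶ T) (n : ℕ) : Prop :=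
  ∀ (Ω : Type u) [Field Ω] (ω : Spec (CommRingCat.of Ω) ⟶ T),
    Set.encard {σ : Spec (CommRingCat.of Ω) ⟶ T' | σ ≫ e = ω} ≤ (n : ℕ∞)

end Groth.Agent.H52.SL
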