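import Groth.Agent.H52.SL.Affine
import Groth.Agent.H52.Iso

/-!
# Separated + locally quasi-finite over a scheme ⇒ scheme; representability of such morphisms (helper52)
-/

set_option autoImplicit false
universe u
open CategoryTheory CategoryTheory.Limits AlgebraicGeometry Opposite AlgSp

namespace Groth.Agent.H52.SL
open Groth.Agent.H50 Groth.Agent.H52 Groth.Agent.H52.SL.Pieces

variable {S : Scheme.{u}}

theorem isSeparatedMor_snd_of_isPullback {X Y Y' X' : Sp S} (hX : IsAlgSpace X) (hY : IsAlgSpace Y)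
    (hY' : IsAlgSpace Y') {f : X ⟶ Y} {g : Y' ⟶ Y} {fst : X' ⟶ X} {f' : X' ⟶ Y'}
    (sq : IsPullback fst f' f g) (hf : IsSeparatedMor f) : IsSeparatedMor f' := by
  have hX' : IsAlgSpace X' := isAlgSpace_of_isPullback sq hY.diag hX hY'
  exact Groth.Agent.H32.GoodMore.isSeparatedMor_of_isPullback (X := ⟨X, hX⟩) (Y := ⟨Y, hY⟩)
    (Y' := ⟨Y', hY'⟩) (X' := ⟨X', hX'⟩) (ObjectProperty.homMk f)
    (ObjectProperty.homMk g) (ObjectProperty.homMk fst) (ObjectProperty.homMk f') sq hf

set_option maxHeartbeats 1600000 in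
/-- An algebraic space separated and locally quasi-finite over a scheme is a scheme. -/
theorem exists_iso_yon_of_sep_lqf {T : Over S} {X : Sp S} (hX : IsAlgSpace X)
    (f : X ⟶ (yon S).obj T) (hsep : IsSeparatedMor f)
    (hqf : LocP (@LocallyQuasiFinite ⊓ @LocallyOfFiniteType) f) :
    ∃ (W : Over S), Nonempty ((yon S).obj W ≅ X) := by
  have hT : IsAlgSpace ((yon S).obj T) := IsAlgSpace.yon_obj T
  obtain ⟨W, i, hi, hir⟩ := exists_rep_openSub_of_forall hX Set.univ isOpen_univ (by
    intro x _
    let t : ↥T.left := Points.toScheme T (Points.map f x)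
    obtain ⟨_, ⟨O, hO, rfl⟩, htO, -⟩ := T.left.isBasis_affineOpens.exists_subset_of_mem_open
      (Set.mem_univ t) isOpen_univ
    let To : Over S := opensOver T O
    haveI : IsAffine To.left := hO
    have hTo : IsAlgSpace ((yon S).obj To) := IsAlgSpace.yon_obj To
    let ι : To ⟶ T := opensOverι T O
    have sq0 : IsPullback (pullback.fst f ((yon S).map ι)) (pullback.snd f ((yon S).map ι)) f
        ((yon S).map ι) := IsPullback.of_hasPullback _ _
    have hX0 : IsAlgSpace (pullback f ((yon S).map ι)) := isAlgSpace_of_isPullback sq0 hT.diag hX hTo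
    have hιo : IsOpenImmersion ι.left := by
      change IsOpenImmersion (Scheme.Opens.ι (show T.left.Opens from O)); infer_instance
    have hfst : RepWith @IsOpenImmersion (pullback.fst f ((yon S).map ι)) := by
      have := AlgSp.repWith_isStableUnderBaseChange (S := S) @IsOpenImmersion
      exact MorphismProperty.of_isPullback sq0.flip ((repWith_yon_map_iff @IsOpenImmersion ι).2 hιo)
    have hsep0 := isSeparatedMor_snd_of_isPullback hX hT hTo sq0 hsep
    have hqf0 := locP_baseChange etLocal_lqf hX hT hTo sq0 hqf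
    let t0 : ↥To.left := ⟨t, htO⟩
    have hpt : Points.map f x = Points.map ((yon S).map ι) (Points.ofScheme To t0) := by
      refine Eq.trans ?_ (map_yon_map_ofScheme ι t0).symm
      exact (Points.ofScheme_toScheme T _).symm
    obtain ⟨x0, hx0, -⟩ := exists_point_of_isPullback sq0 x _ hpt
    obtain ⟨W, i, hi, hxi⟩ := exists_open_subscheme_of_affine hX0 _ hsep0 hqf0 x0
    have := AlgSp.repWith_isMultiplicative (S := S) @IsOpenImmersion
    refine ⟨W, i ≫ pullback.fst f ((yon S).map ι), MorphismProperty.comp_mem _ _ _ hi hfst, ?_,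
      Set.subset_univ _⟩
    obtain ⟨y, hy⟩ := hxi
    exact ⟨y, by rw [Points.map_comp, hy, hx0]⟩)
  have hs : Function.Surjective (Points.map i) := fun x => by
    have : x ∈ Set.range (Points.map i) := hir ▸ Set.mem_univ x
    exact this
  haveI := isIso_of_repWith_isOpenImmersion_of_surjective i hi hs
  exact ⟨W, ⟨asIso i⟩⟩

/-- A separated locally quasi-finite morphism of algebraic spaces is representable. -/
theorem representable_of_sep_lqf {X Y : Sp S} (hX : IsAlgSpace X) (hY : IsAlgSpace Y) (f : X ⟶ Y)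
    (hsep : IsSeparatedMor f) (hqf : LocP (@LocallyQuasiFinite ⊓ @LocallyOfFiniteType) f) :
    Representable f := by
  intro T g
  have hT : IsAlgSpace ((yon S).obj T) := IsAlgSpace.yon_obj T
  have sq0 : IsPullback (pullback.fst f g) (pullback.snd f g) f g := IsPullback.of_hasPullback _ _
  have hP : IsAlgSpace (pullback f g) := isAlgSpace_of_isPullback sq0 hY.diag hX hT
  have hsep0 := isSeparatedMor_snd_of_isPullback hX hY hT sq0 hsep
  have hqf0 := locP_baseChange etLocal_lqf hX hY hT sq0 hqf
  obtain ⟨W, ⟨ψ⟩⟩ := exists_iso_yon_of_sep_lqf hP _ hsep0 hqf0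
  obtain ⟨k, hk⟩ := (yon S).map_surjective (ψ.hom ≫ pullback.snd f g)
  refine ⟨W, k, ψ.hom ≫ pullback.fst f g, ?_⟩
  rw [hk]
  exact IsPullback.of_iso sq0 ψ.symm (Iso.refl _) (Iso.refl _) (Iso.refl _) (by simp) (by simp)
    (by simp) (by simp)

end Groth.Agent.H52.SL
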