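import Groth.Agent.H52.SL.Main

/-!
# A separated, locally quasi-finite algebraic space over a scheme is a scheme (helper52)
-/

set_option autoImplicit false
universe u
open CategoryTheory CategoryTheory.Limits AlgebraicGeometry Opposite AlgSp

namespace Groth.Agent.H52.SL
open Groth.Agent.H50 Groth.Agent.H52 Groth.Agent.H52.SL.Pieces

variable {S : Scheme.{u}}

theorem isEtaleMor_of_repWith {F G : Sp S} (m : F ⟶ G) (hm : RepWith @Etale m) : IsEtaleMor m := by
  intro U φ hφ
  have := AlgSp.repWith_isMultiplicative (S := S) @Etale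
  exact MorphismProperty.comp_mem _ _ _ hφ hm

theorem repWith_etale_id (U : Over S) : RepWith @Etale (𝟙 ((yon S).obj U)) := by
  rw [← (yon S).map_id]
  exact (repWith_yon_map_iff @Etale _).2 (by dsimp; infer_instance)

theorem repWith_of_isEtaleMor {U : Over S} {G : Sp S} (m : (yon S).obj U ⟶ G) (hm : IsEtaleMor m) :
    RepWith @Etale m := by
  have := hm (𝟙 _) (repWith_etale_id U)
  rwa [Category.id_comp] at this

set_option maxHeartbeats 1600000 in
/-- Every point of a separated locally quasi-finite algebraic space over an affine scheme has an open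
neighbourhood which is a scheme. -/
theorem exists_open_subscheme_of_affine {T : Over S} [IsAffine T.left] {X : Sp S} (hX : IsAlgSpace X)
    (f : X ⟶ (yon S).obj T) (hsep : IsSeparatedMor f)
    (hqf : LocP (@LocallyQuasiFinite ⊓ @LocallyOfFiniteType) f) (x : Points X) :
    ∃ (W : Over S) (i : (yon S).obj W ⟶ X), RepWith @IsOpenImmersion i ∧ x ∈ Set.range (Points.map i) := by
  have hT : IsAlgSpace ((yon S).obj T) := IsAlgSpace.yon_obj T
  -- an affine etale chart through `x`
  obtain ⟨U0, a0, ha0e, ha0s⟩ := hX.atlas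
  obtain ⟨u0', hu0'⟩ := surjective_ofPt_of_surjective a0 ha0s x
  obtain ⟨_, ⟨O, hO, rfl⟩, hu0O, -⟩ := U0.left.isBasis_affineOpens.exists_subset_of_mem_open
    (Set.mem_univ u0') isOpen_univ
  let U : Over S := opensOver U0 O
  haveI : IsAffine U.left := hO
  let a : (yon S).obj U ⟶ X := (yon S).map (opensOverι U0 O) ≫ a0
  have hae : RepWith @Etale a := by
    have := AlgSp.repWith_isMultiplicative (S := S) @Etale
    exact MorphismProperty.comp_mem _ _ _
      ((repWith_yon_map_iff @Etale _).2 (by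
        change Etale (Scheme.Opens.ι (show U0.left.Opens from O)); infer_instance)) ha0e
  let u0 : ↥U.left := ⟨u0', hu0O⟩
  have hu0 : Points.ofPt a u0 = x := by
    rw [ofPt_yon_map_comp]; exact hu0'
  obtain ⟨g, hg⟩ := (yon S).map_surjective (a ≫ f)
  have hgP : (@LocallyQuasiFinite ⊓ @LocallyOfFiniteType : MorphismProperty Scheme.{u}) g.left :=
    hqf a (𝟙 _) g hae (repWith_etale_id T) (by rw [hg, Category.comp_id])
  haveI : LocallyQuasiFinite g.left := hgP.1
  haveI : LocallyOfFiniteType g.left := hgP.2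
  haveI : IsSeparated g.left := inferInstance
  obtain ⟨Y1, e0, VV, v, hY1, he0, hvVV, hfin, hvu, huniq, hrad⟩ :=
    exists_etale_split g.left u0 (g.left.quasiFiniteAt u0)
  haveI : IsAffine Y1 := hY1
  haveI : Etale e0 := he0
  let Y1o : Over S := Over.mk (e0 ≫ T.hom)
  let e : Y1o ⟶ T := Over.homMk e0 rfl
  haveI : IsAffine Y1o.left := hY1
  haveI : Etale e.left := he0
  have hY1a : IsAlgSpace ((yon S).obj Y1o) := IsAlgSpace.yon_obj Y1o
  -- the finite piece as a scheme over `S`
  let Vo : Over S := Over.mk ((VV.ι ≫ pullback.fst g.left e0) ≫ U.hom)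
  let k1 : Vo ⟶ U := Over.homMk (VV.ι ≫ pullback.fst g.left e0) rfl
  have hw : (VV.ι ≫ pullback.snd g.left e0) ≫ Y1o.hom = Vo.hom := by
    change (VV.ι ≫ pullback.snd g.left e0) ≫ e0 ≫ T.hom = (VV.ι ≫ pullback.fst g.left e0) ≫ U.hom
    rw [← Over.w g]
    simp only [Category.assoc]
    rw [← pullback.condition_assoc]
  let w : Vo ⟶ Y1o := Over.homMk (VV.ι ≫ pullback.snd g.left e0) hw
  have hk1w : k1 ≫ g = w ≫ e := by
    apply Over.OverMorphism.ext
    change (VV.ι ≫ pullback.fst g.left e0) ≫ g.left = (VV.ι ≫ pullback.snd g.left e0) ≫ e0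
    simp only [Category.assoc]
    rw [pullback.condition]
  haveI : IsFinite w.left := hfin
  -- the base change of `X`
  let P : Sp S := pullback f ((yon S).map e)
  let p2 : P ⟶ X := pullback.fst _ _
  let p1 : P ⟶ (yon S).obj Y1o := pullback.snd _ _
  have sq : IsPullback p2 p1 f ((yon S).map e) := IsPullback.of_hasPullback _ _
  have hP : IsAlgSpace P := isAlgSpace_of_isPullback sq hT.diag hX hY1a
  have hsep1 : IsSeparatedMor p1 :=
    Groth.Agent.H32.GoodMore.isSeparatedMor_of_isPullback (X := ⟨X, hX⟩) (Y := ⟨(yon S).obj T, hT⟩)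
      (Y' := ⟨(yon S).obj Y1o, hY1a⟩) (X' := ⟨P, hP⟩) (ObjectProperty.homMk f)
      (ObjectProperty.homMk ((yon S).map e)) (ObjectProperty.homMk p2) (ObjectProperty.homMk p1) sq hsep
  have hbcond : ((yon S).map k1 ≫ a) ≫ f = (yon S).map w ≫ (yon S).map e := by
    rw [Category.assoc, ← hg, ← Functor.map_comp, ← Functor.map_comp, hk1w]
  let b : (yon S).obj Vo ⟶ P := sq.lift ((yon S).map k1 ≫ a) ((yon S).map w) hbcond
  have hb2 : b ≫ p2 = (yon S).map k1 ≫ a := sq.lift_fst _ _ _
  have hb1 : b ≫ p1 = (yon S).map w := sq.lift_snd _ _ _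
  have hp2e : RepWith @Etale p2 := repWith_etale_of_isPullback_yon e sq
  have hk1e : Etale k1.left := by
    change Etale (VV.ι ≫ pullback.fst g.left e0)
    infer_instance
  have hb2e : RepWith @Etale (b ≫ p2) := by
    rw [hb2]
    have := AlgSp.repWith_isMultiplicative (S := S) @Etale
    exact MorphismProperty.comp_mem _ _ _ ((repWith_yon_map_iff @Etale _).2 hk1e) hae
  have hbe : RepWith @Etale b :=
    repWith_of_isEtaleMor b (Groth.Agent.H51.isEtaleMor_of_comp (IsAlgSpace.yon_obj Vo) hP hX b p2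
      (isEtaleMor_of_repWith _ hb2e) (isEtaleMor_of_repWith _ hp2e))
  -- the injective open piece
  let vv : ↥Vo.left := ⟨v, hvVV⟩
  obtain ⟨VN, hvVN, hVN⟩ := exists_open_mono hP p1 hsep1 w b hbe hb1 vv
    (by
      intro v' hv'
      apply Subtype.ext
      exact huniq v'.1 v'.2 hv')
    (by
      intro K _ α β hαβ hα hβ
      have := hrad K (α ≫ VV.ι) (β ≫ VV.ι) (by rw [Category.assoc, Category.assoc]; exact hαβ)
        (fun z => by
          have := hα z
          change (VV.ι) (α z) = v
          rw [this]; rfl)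
        (fun z => by
          have := hβ z
          change (VV.ι) (β z) = v
          rw [this]; rfl)
      exact (cancel_mono VV.ι).1 this)
  -- the main induction
  obtain ⟨n, hn⟩ := exists_liftsLE_of_etale e0
  obtain ⟨W, i, hi, hir⟩ := main n e hn hX f hsep hqf p1 p2 sq ((yon S).map (opensOverι Vo VN) ≫ b) hVN
  refine ⟨W, i, hi, ?_⟩
  rw [hir]
  refine ⟨Points.ofScheme (opensOver Vo VN) ⟨vv, hvVN⟩, ?_⟩
  refine (Points.map_ofPt (𝟙 _) _ _).trans ?_
  rw [Category.id_comp, Category.assoc, hb2, ← Category.assoc, ← Functor.map_comp]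
  refine (ofPt_yon_map_comp (opensOverι Vo VN ≫ k1) a _).trans ?_
  rw [← hu0]
  congr 1

end Groth.Agent.H52.SL
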