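import Groth.Agent.H52.SL.General

/-!
# The image of a quasi-compact scheme etale over a scheme-like algebraic space (helper52)
-/

set_option autoImplicit false
universe u
open CategoryTheory CategoryTheory.Limits AlgebraicGeometry Opposite AlgSp

namespace Groth.Agent.H52.SL
open Groth.Agent.H50 Groth.Agent.H52

variable {S : Scheme.{u}}

/-- If `X ≅ h_Z` is a scheme and `m : h_{V0} ⟶ X` is representable etale with `V0` quasi-compact, the image of `m`
is a quasi-compact open subscheme of `X`. -/
theorem exists_open_subscheme_image {X : Sp S} {Z V0 : Over S} (ψ : (yon S).obj Z ≅ X)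
    (m : (yon S).obj V0 ⟶ X) (hm : RepWith @Etale m) [CompactSpace ↥V0.left] :
    ∃ (W : Over S) (i : (yon S).obj W ⟶ X), RepWith @IsOpenImmersion i ∧ CompactSpace ↥W.left ∧
      Set.range (Points.ofPt i) = Set.range (Points.map m) := by
  have hV : IsOpen (Set.range (Points.map m)) := isOpen_range_map_of_etale m hm
  let O : Z.left.Opens := preimageOpens hV ψ.hom
  obtain ⟨m0, hm0⟩ := (yon S).map_surjective (m ≫ ψ.inv)
  have hm0' : (yon S).map m0 ≫ ψ.hom = m := by rw [hm0, Category.assoc, Iso.inv_hom_id, Category.comp_id]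
  have hinj : Function.Injective (Points.ofPt ψ.hom) := by
    intro a b hab
    have h1 : Points.map ψ.hom (Points.ofScheme Z a) = Points.map ψ.hom (Points.ofScheme Z b) := by
      rw [Points.map_ofPt, Points.map_ofPt, Category.id_comp]; exact hab
    have h2 := congrArg (Points.map ψ.inv) h1
    rw [← Points.map_comp, ← Points.map_comp, Iso.hom_inv_id, Points.map_id, Points.map_id] at h2
    exact ofScheme_injective Z h2
  have hsurj : Function.Surjective (Points.ofPt ψ.hom) := by
    intro x
    refine ⟨Points.toScheme Z (Points.map ψ.inv x), ?_⟩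
    have : Points.ofPt ψ.hom (Points.toScheme Z (Points.map ψ.inv x)) =
        Points.map ψ.hom (Points.ofScheme Z (Points.toScheme Z (Points.map ψ.inv x))) := by
      rw [Points.map_ofPt, Category.id_comp]
    rw [this, Points.ofScheme_toScheme, ← Points.map_comp, Iso.inv_hom_id, Points.map_id]
  have hO : (O : Set ↥Z.left) = Set.range m0.left := by
    ext t
    rw [SetLike.mem_coe, mem_preimageOpens, range_map_eq_range_ofPt]
    constructor
    · rintro ⟨v, hv⟩
      refine ⟨v, hinj ?_⟩
      rw [← ofPt_yon_map_comp, hm0']; exact hv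
    · rintro ⟨v, rfl⟩
      exact ⟨v, by rw [← ofPt_yon_map_comp, hm0']⟩
  refine ⟨opensOver Z O, (yon S).map (opensOverι Z O) ≫ ψ.hom, ?_, ?_, ?_⟩
  · have hR : (RepWith (S := S) @IsOpenImmersion).RespectsIso := inferInstance
    refine (MorphismProperty.cancel_right_of_respectsIso (RepWith (S := S) @IsOpenImmersion)
      ((yon S).map (opensOverι Z O)) ψ.hom).2 ?_
    exact (repWith_yon_map_iff @IsOpenImmersion _).2 (by change IsOpenImmersion O.ι; infer_instance)
  · change CompactSpace ↥(O : Set ↥Z.left)
    rw [← isCompact_iff_compactSpace, hO]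
    exact isCompact_range m0.left.continuous
  · ext x
    constructor
    · rintro ⟨w, rfl⟩
      rw [ofPt_yon_map_comp (opensOverι Z O) ψ.hom w]
      exact w.2
    · intro hx
      obtain ⟨t, rfl⟩ := hsurj x
      have ht : t ∈ O := (mem_preimageOpens hV ψ.hom t).2 hx
      exact ⟨⟨t, ht⟩, ofPt_yon_map_comp (opensOverι Z O) ψ.hom _⟩

end Groth.Agent.H52.SL
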