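import Groth.Agent.H52.SL.Defs
import Groth.Agent.H94.SL_P5
import Groth.Agent.H94.SL_P6b
import Groth.Agent.H94.SL_P7
import Groth.Agent.H10.SL_P1
import Groth.Agent.H10.SL_P2
import Groth.Agent.H73.SL_P3
import Groth.Agent.H65.SL_P4

/-!
# The squad pieces for "separated + locally quasi-finite over a scheme ⇒ scheme" (helper52)

Thanks to helper94 (P5, P6a, P6b, P7), helper10 (P1, P2), helper73 (P3), helper65 (P4).
-/

set_option autoImplicit false
universe u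
open CategoryTheory CategoryTheory.Limits AlgebraicGeometry Opposite AlgSp

namespace Groth.Agent.H52.SL.Pieces
open Groth.Agent.H52.SL Groth.Agent.H50

theorem isEmpty_of_liftsLE_zero {T' T : Scheme.{u}} (e : T' ⟶ T) (h : LiftsLE e 0) : IsEmpty ↥T' :=
  Groth.Agent.H10.SL_P1.isEmpty_of_liftsLE_zero e h

theorem exists_liftsLE_of_etale {T' T : Scheme.{u}} [IsAffine T'] [IsAffine T] (e : T' ⟶ T) [Etale e] :
    ∃ n : ℕ, LiftsLE e n :=
  Groth.Agent.H10.SL_P2.exists_liftsLE_of_etale e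

theorem exists_rest {T' T : Scheme.{u}} [IsAffine T'] [IsAffine T] (e : T' ⟶ T) [Etale e] (n : ℕ)
    (h : LiftsLE e (n + 1)) :
    ∃ (Tr : Scheme.{u}) (q0 q1 : Tr ⟶ T'), IsAffine Tr ∧ Etale q1 ∧ q0 ≫ e = q1 ≫ e ∧ LiftsLE q1 n ∧
      ∀ (K : Type u) [Field K] (a b : Spec (CommRingCat.of K) ⟶ T'), a ≫ e = b ≫ e →
        a = b ∨ ∃ c : Spec (CommRingCat.of K) ⟶ Tr, c ≫ q0 = a ∧ c ≫ q1 = b :=
  Groth.Agent.H73.SL_P3.exists_rest e n h

theorem exists_etale_split {U0 T : Scheme.{u}} [IsAffine T] (g : U0 ⟶ T) [IsSeparated g]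
    [LocallyOfFiniteType g] (u0 : ↥U0) (hqf : g.QuasiFiniteAt u0) :
    ∃ (Y1 : Scheme.{u}) (e : Y1 ⟶ T) (VV : (pullback g e).Opens) (v : ↥(pullback g e)),
      IsAffine Y1 ∧ Etale e ∧ v ∈ VV ∧ IsFinite (VV.ι ≫ pullback.snd g e) ∧ pullback.fst g e v = u0 ∧
      (∀ v' ∈ VV, pullback.snd g e v' = pullback.snd g e v → v' = v) ∧
      (∀ (K : Type u) [Field K] (α β : Spec (CommRingCat.of K) ⟶ pullback g e),
        α ≫ pullback.snd g e = β ≫ pullback.snd g e → (∀ z, α z = v) → (∀ z, β z = v) → α = β) :=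
  Groth.Agent.H65.SL_P4.exists_etale_split g u0 hqf

variable {S : Scheme.{u}}

theorem exists_rep_openSub_of_forall {X : Sp S} (hX : IsAlgSpace X) (V : Set (Points X)) (hV : IsOpen V)
    (h : ∀ x ∈ V, ∃ (W : Over S) (i : (yon S).obj W ⟶ X), RepWith @IsOpenImmersion i ∧
      x ∈ Set.range (Points.map i) ∧ Set.range (Points.map i) ⊆ V) :
    ∃ (W : Over S) (i : (yon S).obj W ⟶ X), RepWith @IsOpenImmersion i ∧ Set.range (Points.map i) = V :=
  Groth.Agent.H94.SL_P5.exists_rep_openSub_of_forall hX V hV h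

theorem descend {T T' : Over S} [IsAffine T.left] [IsAffine T'.left] (e : T' ⟶ T) [Etale e.left]
    {X P : Sp S} (hX : IsAlgSpace X) (f : X ⟶ (yon S).obj T) (hsep : IsSeparatedMor f)
    (hqf : LocP (@LocallyQuasiFinite ⊓ @LocallyOfFiniteType) f)
    (p1 : P ⟶ (yon S).obj T') (p2 : P ⟶ X) (sq : IsPullback p2 p1 f ((yon S).map e))
    {W' : Over S} (i' : (yon S).obj W' ⟶ P) (hi' : RepWith @IsOpenImmersion i')
    (V : Set (Points X)) (hV : IsOpen V)
    (hsat : Set.range (Points.map i') = Points.map p2 ⁻¹' V)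
    (hsub : V ⊆ Set.range (Points.map p2)) :
    ∃ (W : Over S) (i : (yon S).obj W ⟶ X), RepWith @IsOpenImmersion i ∧ Set.range (Points.map i) = V :=
  Groth.Agent.H94.SL_P6b.descend e hX f hsep hqf p1 p2 sq i' hi' V hV hsat hsub

theorem exists_open_mono {Y1 V : Over S} {P : Sp S} (hP : IsAlgSpace P) (p1 : P ⟶ (yon S).obj Y1)
    (hsep : IsSeparatedMor p1) (w : V ⟶ Y1) [IsFinite w.left]
    (b : (yon S).obj V ⟶ P) (hb : RepWith @Etale b) (hbw : b ≫ p1 = (yon S).map w) (v : ↥V.left)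
    (huniq : ∀ v' : ↥V.left, w.left v' = w.left v → v' = v)
    (hrad : ∀ (K : Type u) [Field K] (α β : Spec (CommRingCat.of K) ⟶ V.left),
      α ≫ w.left = β ≫ w.left → (∀ z, α z = v) → (∀ z, β z = v) → α = β) :
    ∃ VN : V.left.Opens, v ∈ VN ∧ RepWith @IsOpenImmersion ((yon S).map (opensOverι V VN) ≫ b) :=
  Groth.Agent.H94.SL_P7.exists_open_mono hP p1 hsep w b hb hbw v huniq hrad

end Groth.Agent.H52.SL.Pieces
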