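import Groth.Agent.H52.SL.Step
import Groth.Agent.H52.SL.Pieces

/-!
# Main induction: the image in `X` of an open subscheme of `X ×_T T'` is an open subscheme (helper52)
-/

set_option autoImplicit false
universe u
open CategoryTheory CategoryTheory.Limits AlgebraicGeometry Opposite AlgSp

namespace Groth.Agent.H52.SL
open Groth.Agent.H50 Groth.Agent.H52 Groth.Agent.H52.SL.Pieces

variable {S : Scheme.{u}}

theorem repWith_etale_of_isPullback_yon {T T' : Over S} (e : T' ⟶ T) [Etale e.left] {X P : Sp S}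
    {f : X ⟶ (yon S).obj T} {p1 : P ⟶ (yon S).obj T'} {p2 : P ⟶ X}
    (sq : IsPullback p2 p1 f ((yon S).map e)) : RepWith @Etale p2 := by
  have := AlgSp.repWith_isStableUnderBaseChange (S := S) @Etale
  exact MorphismProperty.of_isPullback sq.flip ((repWith_yon_map_iff @Etale e).2 inferInstance)

theorem repWith_etale_comp_of_open {T T' : Over S} (e : T' ⟶ T) [Etale e.left] {X P : Sp S}
    {f : X ⟶ (yon S).obj T} {p1 : P ⟶ (yon S).obj T'} {p2 : P ⟶ X}
    (sq : IsPullback p2 p1 f ((yon S).map e)) {V' : Over S} (j : (yon S).obj V' ⟶ P)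
    (hj : RepWith @IsOpenImmersion j) : RepWith @Etale (j ≫ p2) := by
  have := AlgSp.repWith_isMultiplicative (S := S) @Etale
  exact MorphismProperty.comp_mem _ _ _
    (Groth.Agent.H50.repWith_mono (fun _ _ g (hg : IsOpenImmersion g) => (inferInstance : Etale g)) hj)
    (repWith_etale_of_isPullback_yon e sq)

set_option maxHeartbeats 1600000 in
theorem main (n : ℕ) : ∀ {T T' : Over S} [IsAffine T.left] [IsAffine T'.left] (e : T' ⟶ T) [Etale e.left],
    LiftsLE e.left n → ∀ {X P : Sp S} (_ : IsAlgSpace X) (f : X ⟶ (yon S).obj T) (_ : IsSeparatedMor f)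
    (_ : LocP (@LocallyQuasiFinite ⊓ @LocallyOfFiniteType) f)
    (p1 : P ⟶ (yon S).obj T') (p2 : P ⟶ X) (_ : IsPullback p2 p1 f ((yon S).map e))
    {V' : Over S} (j : (yon S).obj V' ⟶ P) (_ : RepWith @IsOpenImmersion j),
    ∃ (W : Over S) (i : (yon S).obj W ⟶ X), RepWith @IsOpenImmersion i ∧
      Set.range (Points.map i) = Set.range (Points.map (j ≫ p2)) := by
  induction n with
  | zero =>
    intro T T' _ _ e _ hdeg X P hX f hsep hqf p1 p2 sq V' j hj
    have hT' : IsEmpty ↥T'.left := isEmpty_of_liftsLE_zero e.left hdeg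
    have hPe : IsEmpty (Points P) :=
      ⟨fun x => hT'.false (Points.toScheme T' (Points.map p1 x))⟩
    have hT : IsAlgSpace ((yon S).obj T) := IsAlgSpace.yon_obj T
    have hT'a : IsAlgSpace ((yon S).obj T') := IsAlgSpace.yon_obj T'
    refine descend e hX f hsep hqf p1 p2 sq j hj _
      (isOpen_range_map_of_etale _ (repWith_etale_comp_of_open e sq j hj)) ?_ ?_
    · ext x; exact (hPe.false x).elim
    · rintro _ ⟨y, rfl⟩
      rw [Points.map_comp]; exact ⟨_, rfl⟩
  | succ n ih =>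
    intro T T' _ _ e _ hdeg X P hX f hsep hqf p1 p2 sq V' j hj
    have hT : IsAlgSpace ((yon S).obj T) := IsAlgSpace.yon_obj T
    have hT'a : IsAlgSpace ((yon S).obj T') := IsAlgSpace.yon_obj T'
    have hP : IsAlgSpace P := isAlgSpace_of_isPullback sq hT.diag hX hT'a
    obtain ⟨Tr0, q00, q10, hTraff, hq1et, hq0, hq1deg, hdich⟩ := exists_rest e.left n hdeg
    let Tr : Over S := Over.mk (q10 ≫ T'.hom)
    let q1 : Tr ⟶ T' := Over.homMk q10 rfl
    have hq0w : q00 ≫ T'.hom = q10 ≫ T'.hom := by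
      rw [← Over.w e, ← Category.assoc, hq0, Category.assoc]
    let q0 : Tr ⟶ T' := Over.homMk q00 hq0w
    have hq : q0 ≫ e = q1 ≫ e := Over.OverMorphism.ext hq0
    haveI : IsAffine Tr.left := hTraff
    haveI : Etale q1.left := hq1et
    -- the base change of `P` to `Tr`
    let P2 : Sp S := pullback p1 ((yon S).map q1)
    let π1 : P2 ⟶ P := pullback.fst _ _
    let π2 : P2 ⟶ (yon S).obj Tr := pullback.snd _ _
    have sq2 : IsPullback π1 π2 p1 ((yon S).map q1) := IsPullback.of_hasPullback _ _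
    have hTra : IsAlgSpace ((yon S).obj Tr) := IsAlgSpace.yon_obj Tr
    have hP2 : IsAlgSpace P2 := isAlgSpace_of_isPullback sq2 hT'a.diag hP hTra
    -- `p1` is separated and locally quasi-finite
    have hsep1 : IsSeparatedMor p1 :=
      Groth.Agent.H32.GoodMore.isSeparatedMor_of_isPullback (X := ⟨X, hX⟩) (Y := ⟨(yon S).obj T, hT⟩)
        (Y' := ⟨(yon S).obj T', hT'a⟩) (X' := ⟨P, hP⟩) (ObjectProperty.homMk f)
        (ObjectProperty.homMk ((yon S).map e)) (ObjectProperty.homMk p2) (ObjectProperty.homMk p1) sq hsep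
    have hqf1 : LocP (@LocallyQuasiFinite ⊓ @LocallyOfFiniteType) p1 :=
      locP_baseChange etLocal_lqf hX hT hT'a sq hqf
    -- the scheme map under `j ≫ p1`
    obtain ⟨v1, hv1⟩ := (yon S).map_surjective (j ≫ p1)
    let V2 : Over S := pullback v1 q0
    let r1 : V2 ⟶ V' := pullback.fst _ _
    let r2 : V2 ⟶ Tr := pullback.snd _ _
    have sqV : IsPullback r1 r2 v1 q0 := IsPullback.of_hasPullback _ _
    let j2 := stepJ e q0 q1 hq f p1 p2 sq π1 π2 sq2 j v1 hv1.symm r1 r2 sqV
    have hj2 : RepWith @IsOpenImmersion j2 :=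
      repWith_stepJ e q0 q1 hq f p1 p2 sq π1 π2 sq2 j v1 hv1.symm r1 r2 sqV hj
    obtain ⟨W2, i2, hi2, hi2r⟩ := ih q1 hq1deg hP p1 hsep1 hqf1 π2 π1 sq2 j2 hj2
    -- the union
    have hVopen : IsOpen (Set.range (Points.map j) ∪ Set.range (Points.map i2)) :=
      (Groth.Agent.H51.isOpen_range_of_repWith_isOpenImmersion (IsAlgSpace.yon_obj V') hP j hj).union
        (Groth.Agent.H51.isOpen_range_of_repWith_isOpenImmersion (IsAlgSpace.yon_obj W2) hP i2 hi2)
    obtain ⟨W', i', hi', hi'r⟩ := exists_rep_openSub_of_forall hP _ hVopen (by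
      rintro x (hx | hx)
      · exact ⟨V', j, hj, hx, Set.subset_union_left⟩
      · exact ⟨W2, i2, hi2, hx, Set.subset_union_right⟩)
    refine descend e hX f hsep hqf p1 p2 sq i' hi' _
      (isOpen_range_map_of_etale _ (repWith_etale_comp_of_open e sq j hj)) ?_ ?_
    · rw [hi'r, hi2r]
      exact (preimage_range_eq e q0 q1 hq f p1 p2 sq π1 π2 sq2 j v1 hv1.symm r1 r2 sqV hdich).symm
    · rintro _ ⟨y, rfl⟩
      rw [Points.map_comp]; exact ⟨_, rfl⟩

end Groth.Agent.H52.SL
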