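import Groth.Agent.H52.SL.Defs
import Groth.Agent.H51.LqfDescGen
import Groth.Agent.H51.LargestScheme
import Groth.Agent.H51.EtaleMono
import Groth.Agent.H52.GeomFibreConn
import Groth.Agent.H52.LocPBC
import Groth.Agent.H52.EtLocalInst
import Groth.Agent.H32.GoodMore

/-!
# The induction step for "separated + locally quasi-finite over a scheme ⇒ scheme" (helper52)

Plumbing: base change of an open piece `V' ⊆ P = X ×_T T'` to `Tr ⟶ T'` along the *other* projection, and the
description of the saturation of `V'` w.r.t. `P ⟶ X`.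
-/

set_option autoImplicit false
universe u
open CategoryTheory CategoryTheory.Limits AlgebraicGeometry Opposite AlgSp

namespace Groth.Agent.H52.SL
open Groth.Agent.H50 Groth.Agent.H52

variable {S : Scheme.{u}}

/-- The range of `Points.map a` for `a : h_U ⟶ F` is the range of `Points.ofPt a`. -/
theorem range_map_eq_range_ofPt {F : Sp S} {U : Over S} (a : (yon S).obj U ⟶ F) :
    Set.range (Points.map a) = Set.range (Points.ofPt a) := by
  ext x
  constructor
  · rintro ⟨y, rfl⟩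
    refine ⟨Points.toScheme U y, ?_⟩
    conv_rhs => rw [← Points.ofScheme_toScheme U y]
    rw [Points.map_ofPt, Category.id_comp]
  · rintro ⟨u, rfl⟩
    exact ⟨Points.ofScheme U u, by rw [Points.map_ofPt, Category.id_comp]⟩

/-- The range of the map on points of a representable etale map from a scheme is open. -/
theorem isOpen_range_map_of_etale {F : Sp S} {U : Over S} (a : (yon S).obj U ⟶ F)
    (ha : RepWith @Etale a) : IsOpen (Set.range (Points.map a)) := by
  rw [range_map_eq_range_ofPt, ← Set.image_univ]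
  exact isOpenMap_ofPt_of_etale a ha _ isOpen_univ

/-- A field-valued realisation of a pair of points with the same image. -/
theorem exists_fieldPt_pair {P Q X : Sp S} (p : P ⟶ X) (g : Q ⟶ X) (x : Points P) (y : Points Q)
    (hxy : Points.map p x = Points.map g y) :
    ∃ (Ω : Type u) (_ : Field Ω) (w : Spec (CommRingCat.of Ω) ⟶ S)
      (α : (yon S).obj (Over.mk w) ⟶ P) (β : (yon S).obj (Over.mk w) ⟶ Q),
      α ≫ p = β ≫ g ∧ (∀ z, Points.ofPt α z = x) ∧ (∀ z, Points.ofPt β z = y) := by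
  obtain ⟨z, hz1, hz2⟩ := exists_point_of_isPullback (IsPullback.of_hasPullback p g) x y hxy
  induction z using Points.ind with
  | h ζ =>
  refine ⟨ζ.K, inferInstance, ζ.str, ζ.toHom ≫ pullback.fst p g, ζ.toHom ≫ pullback.snd p g, ?_, ?_, ?_⟩
  · rw [Category.assoc, Category.assoc, pullback.condition]
  · intro s
    rw [← Points.map_ofPt, Points.ofPt_toHom, hz1]
  · intro s
    rw [← Points.map_ofPt, Points.ofPt_toHom, hz2]

section Step

variable {T T' Tr : Over S} (e : T' ⟶ T) (q0 q1 : Tr ⟶ T') (hq : q0 ≫ e = q1 ≫ e)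
  {X P P2 : Sp S} (f : X ⟶ (yon S).obj T) (p1 : P ⟶ (yon S).obj T') (p2 : P ⟶ X)
  (sq : IsPullback p2 p1 f ((yon S).map e))
  (π1 : P2 ⟶ P) (π2 : P2 ⟶ (yon S).obj Tr) (sq2 : IsPullback π1 π2 p1 ((yon S).map q1))
  {V' V2 : Over S} (j : (yon S).obj V' ⟶ P) (v1 : V' ⟶ T') (hv1 : j ≫ p1 = (yon S).map v1)
  (r1 : V2 ⟶ V') (r2 : V2 ⟶ Tr) (sqV : IsPullback r1 r2 v1 q0)

include hq sq hv1 sqV in
theorem step_cond : ((yon S).map r1 ≫ j ≫ p2) ≫ f = (yon S).map (r2 ≫ q1) ≫ (yon S).map e := by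
  have h0 : r1 ≫ v1 ≫ e = (r2 ≫ q1) ≫ e := by
    rw [← Category.assoc, sqV.w, Category.assoc, hq, Category.assoc]
  rw [Category.assoc, Category.assoc, sq.w, ← Category.assoc j, hv1, ← Functor.map_comp,
    ← Functor.map_comp, ← Functor.map_comp, h0]

/-- the map `h_{V2} ⟶ P` through the second projection -/
noncomputable def stepM : (yon S).obj V2 ⟶ P :=
  sq.lift ((yon S).map r1 ≫ j ≫ p2) ((yon S).map (r2 ≫ q1)) (step_cond e q0 q1 hq f p1 p2 sq j v1 hv1 r1 r2 sqV)

theorem stepM_fst : stepM e q0 q1 hq f p1 p2 sq j v1 hv1 r1 r2 sqV ≫ p2 = (yon S).map r1 ≫ j ≫ p2 :=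
  sq.lift_fst _ _ _

theorem stepM_snd : stepM e q0 q1 hq f p1 p2 sq j v1 hv1 r1 r2 sqV ≫ p1 = (yon S).map (r2 ≫ q1) :=
  sq.lift_snd _ _ _

/-- the map `h_{V2} ⟶ P2` -/
noncomputable def stepJ : (yon S).obj V2 ⟶ P2 :=
  sq2.lift (stepM e q0 q1 hq f p1 p2 sq j v1 hv1 r1 r2 sqV) ((yon S).map r2)
    (by rw [stepM_snd, Functor.map_comp])

theorem stepJ_fst : stepJ e q0 q1 hq f p1 p2 sq π1 π2 sq2 j v1 hv1 r1 r2 sqV ≫ π1 =
    stepM e q0 q1 hq f p1 p2 sq j v1 hv1 r1 r2 sqV := sq2.lift_fst _ _ _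

theorem stepJ_snd : stepJ e q0 q1 hq f p1 p2 sq π1 π2 sq2 j v1 hv1 r1 r2 sqV ≫ π2 = (yon S).map r2 :=
  sq2.lift_snd _ _ _

/-- (A3) the base-changed piece is again an open immersion -/
theorem repWith_stepJ (hj : RepWith @IsOpenImmersion j) :
    RepWith @IsOpenImmersion (stepJ e q0 q1 hq f p1 p2 sq π1 π2 sq2 j v1 hv1 r1 r2 sqV) := by
  have hcond : (π1 ≫ p2) ≫ f = (π2 ≫ (yon S).map q0) ≫ (yon S).map e := by
    rw [Category.assoc, sq.w, ← Category.assoc, sq2.w, Category.assoc, Category.assoc,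
      ← Functor.map_comp, ← Functor.map_comp, hq]
  let π0 : P2 ⟶ P := sq.lift (π1 ≫ p2) (π2 ≫ (yon S).map q0) hcond
  have hπ0a : π0 ≫ p2 = π1 ≫ p2 := sq.lift_fst _ _ _
  have hπ0b : π0 ≫ p1 = π2 ≫ (yon S).map q0 := sq.lift_snd _ _ _
  have outer : IsPullback (π0 ≫ p2) π2 f ((yon S).map q0 ≫ (yon S).map e) := by
    have h := sq2.paste_horiz sq
    rw [← Functor.map_comp, ← hq, Functor.map_comp] at h
    rw [hπ0a]; exact h
  have sqA : IsPullback π0 π2 p1 ((yon S).map q0) := IsPullback.of_right outer hπ0b sq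
  have hcomm : stepJ e q0 q1 hq f p1 p2 sq π1 π2 sq2 j v1 hv1 r1 r2 sqV ≫ π0 = (yon S).map r1 ≫ j := by
    apply sq.hom_ext
    · rw [Category.assoc, hπ0a, ← Category.assoc, stepJ_fst, stepM_fst, Category.assoc]
    · rw [Category.assoc, hπ0b, ← Category.assoc, stepJ_snd, Category.assoc, hv1,
        ← Functor.map_comp, ← Functor.map_comp, sqV.w]
  have outer2 : IsPullback (stepJ e q0 q1 hq f p1 p2 sq π1 π2 sq2 j v1 hv1 r1 r2 sqV ≫ π2)
      ((yon S).map r1) ((yon S).map q0) (j ≫ p1) := by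
    rw [stepJ_snd, hv1]
    exact (sqV.map (yon S)).flip
  have key : IsPullback (stepJ e q0 q1 hq f p1 p2 sq π1 π2 sq2 j v1 hv1 r1 r2 sqV) ((yon S).map r1) π0 j :=
    IsPullback.of_right outer2 hcomm sqA.flip
  have := AlgSp.repWith_isStableUnderBaseChange (S := S) @IsOpenImmersion
  exact MorphismProperty.of_isPullback key.flip hj

/-- (A5) the saturation of the open piece -/
theorem preimage_range_eq
    (hdich : ∀ (K : Type u) [Field K] (a b : Spec (CommRingCat.of K) ⟶ T'.left), a ≫ e.left = b ≫ e.left →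
        a = b ∨ ∃ c : Spec (CommRingCat.of K) ⟶ Tr.left, c ≫ q0.left = a ∧ c ≫ q1.left = b) :
    Points.map p2 ⁻¹' Set.range (Points.map (j ≫ p2)) =
      Set.range (Points.map j) ∪
        Set.range (Points.map (stepJ e q0 q1 hq f p1 p2 sq π1 π2 sq2 j v1 hv1 r1 r2 sqV ≫ π1)) := by
  ext x
  constructor
  · rintro ⟨y, hy⟩
    rw [Points.map_comp] at hy
    obtain ⟨Ω, _, w, α, β, hαβ, hα, hβ⟩ := exists_fieldPt_pair p2 (j ≫ p2) x y (by rw [Points.map_comp]; exact hy.symm)
    obtain ⟨β0, rfl⟩ := (yon S).map_surjective β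
    obtain ⟨a0, ha0⟩ := (yon S).map_surjective (α ≫ p1)
    have hab : a0.left ≫ e.left = (β0 ≫ v1).left ≫ e.left := by
      rw [← Over.comp_left, ← Over.comp_left]
      congr 1
      apply (yon S).map_injective
      rw [Functor.map_comp, ha0, Category.assoc, ← sq.w, ← Category.assoc, hαβ, Functor.map_comp,
        Functor.map_comp, ← hv1]
      simp only [Category.assoc]
      rw [sq.w]
    rcases hdich Ω (β0 ≫ v1).left a0.left hab.symm with h | ⟨c, hc0, hc1⟩
    · left
      have h' : a0 = β0 ≫ v1 := Over.OverMorphism.ext h.symm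
      have hα' : α = (yon S).map β0 ≫ j := by
        apply sq.hom_ext
        · rw [hαβ, Category.assoc]
        · rw [← ha0, h', Functor.map_comp, Category.assoc, hv1]
      refine ⟨Points.ofPt ((yon S).map β0) (IsLocalRing.closedPoint Ω), ?_⟩
      refine (Points.map_ofPt ((yon S).map β0) j _).trans ?_
      rw [← hα']; exact hα _
    · right
      have hcw : c ≫ Tr.hom = w := by
        have h1 : c ≫ q1.left ≫ T'.hom = w := by
          rw [← Category.assoc, hc1]; exact Over.w a0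
        rw [← h1, Over.w q1]
      let c' : Over.mk w ⟶ Tr := Over.homMk c hcw
      have hc0' : c' ≫ q0 = β0 ≫ v1 := Over.OverMorphism.ext hc0
      have hc1' : c' ≫ q1 = a0 := Over.OverMorphism.ext hc1
      let γ : Over.mk w ⟶ V2 := sqV.lift β0 c' hc0'.symm
      have hγ1 : γ ≫ r1 = β0 := sqV.lift_fst _ _ _
      have hγ2 : γ ≫ r2 = c' := sqV.lift_snd _ _ _
      have hα' : α = (yon S).map γ ≫ stepJ e q0 q1 hq f p1 p2 sq π1 π2 sq2 j v1 hv1 r1 r2 sqV ≫ π1 := by
        rw [stepJ_fst]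
        apply sq.hom_ext
        · rw [Category.assoc, stepM_fst, hαβ, ← hγ1, Functor.map_comp, Category.assoc]
        · rw [Category.assoc, stepM_snd, ← Functor.map_comp, ← Category.assoc, hγ2, hc1', ha0]
      refine ⟨Points.ofPt ((yon S).map γ) (IsLocalRing.closedPoint Ω), ?_⟩
      refine (Points.map_ofPt ((yon S).map γ) _ _).trans ?_
      rw [← hα']; exact hα _
  · rintro (⟨y, rfl⟩ | ⟨y, rfl⟩)
    · exact ⟨y, by rw [Points.map_comp]⟩
    · refine ⟨Points.map ((yon S).map r1) y, ?_⟩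
      rw [← Points.map_comp, ← Points.map_comp]
      congr 1
      rw [stepJ_fst, stepM_fst]

end Step

end Groth.Agent.H52.SL
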